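import Groth.Agent.Lib.VarDim.Fibre

/-!
Dimension of the source of a morphism through the loci where the fibres have large dimension.
-/

open CategoryTheory AlgebraicGeometry Order Topology TopologicalSpace

universe u

namespace Groth.Agent.CharDimH7

open VarDim

variable {k : Type u} [Field k] {C X : Scheme.{u}} (q : X ⟶ Spec (CommRingCat.of k)) (π : C ⟶ X)
  [LocallyOfFiniteType q] [LocallyOfFiniteType π]

theorem le_dim_fiber_iff (x : X) (j : ℕ) :
    (j : WithBot ℕ∞) ≤ topologicalKrullDim (π.fiber x) ↔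
      ∃ z, π z = x ∧ sdim q x + j ≤ sdim (π ≫ q) z := by
  rw [(π.fiberHomeo x).isHomeomorph.topologicalKrullDim_eq]
  constructor
  · intro h
    by_contra hne
    push Not at hne
    cases j with
    | zero =>
      have he : (π ⁻¹' {x} : Set C) = ∅ := Set.eq_empty_iff_forall_notMem.mpr fun z hz => by
        have h1 := hne z hz
        have h2 : sdim q (π z) ≤ sdim (π ≫ q) z := sdim_le_comp q π z
        rw [show π z = x from hz] at h2
        omega
      haveI : IsEmpty (π ⁻¹' {x} : Set C) := Set.isEmpty_coe_sort.mpr he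
      haveI : IsEmpty (IrreducibleCloseds (π ⁻¹' {x} : Set C)) :=
        ⟨fun s => isEmptyElim s.2.1.some⟩
      rw [topologicalKrullDim, krullDim_eq_bot] at h
      exact (WithBot.bot_lt_coe _).not_ge h
    | succ j =>
      have := h.trans ((dim_preimage_singleton_le_iff q π x j).mpr fun z hz => by
        have := hne z hz
        omega)
      have : j + 1 ≤ j := by exact_mod_cast this
      omega
  · rintro ⟨z, rfl, hz⟩
    refine le_trans ?_ (le_dim_preimage_singleton q π z)
    exact_mod_cast (by omega : j ≤ sdim (π ≫ q) z - sdim q (π z))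

variable [CompactSpace X] [CompactSpace C]

theorem sdim_le_of_mem_closure {n : ℕ} (hn : ∀ z, sdim (π ≫ q) z ≤ n) (j : ℕ) {g : X}
    (hg : g ∈ closure {x : X | ∃ z, π z = x ∧ sdim q x + j ≤ sdim (π ≫ q) z}) : sdim q g + j ≤ n := by
  classical
  haveI : IsLocallyNoetherian X := LocallyOfFiniteType.isLocallyNoetherian q
  haveI : IsNoetherian X := {}
  haveI : IsLocallyNoetherian C := LocallyOfFiniteType.isLocallyNoetherian (π ≫ q)
  haveI : IsNoetherian C := {}
  haveI : QuasiCompact q := (quasiCompact_iff_compactSpace q).mpr inferInstance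
  haveI : QuasiCompact (π ≫ q) := (quasiCompact_iff_compactSpace (π ≫ q)).mpr inferInstance
  haveI : QuasiCompact π := QuasiCompact.of_comp π q
  set E : Set X := {x : X | ∃ z, π z = x ∧ sdim q x + j ≤ sdim (π ≫ q) z}
  obtain ⟨G, hG⟩ := exists_finite_generic (X := X) (C := closure E) isClosed_closure
  obtain ⟨g₀, hg₀, -⟩ := (hG g).mp hg
  obtain ⟨g', hg', hmax⟩ := G.exists_max_image (sdim q) ⟨g₀, hg₀⟩
  have hgg : sdim q g ≤ sdim q g' := by
    obtain ⟨g₁, hg₁, hs⟩ := (hG g).mp hg
    rcases eq_or_ne g₁ g with rfl | hne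
    · exact hmax _ hg₁
    · exact (sdim_lt_of_specializes q hs hne).le.trans (hmax _ hg₁)
  suffices sdim q g' + j ≤ n by omega
  obtain ⟨T, hT⟩ := exists_finite_generic (X := C) (C := π ⁻¹' closure {g'}) (isClosed_closure.preimage π.continuous)
  choose V hV hVu using fun ζ : C => exists_opens_fibre_upper q π ζ
  let U : Set X := (⋂ a ∈ (G.erase g'), (closure {a})ᶜ) ∩
    ((⋂ ζ ∈ T.filter (fun ζ => π ζ = g'), (V ζ : Set X)) ∩
      ⋂ ζ ∈ T.filter (fun ζ => ¬ π ζ = g'), (closure {π ζ})ᶜ)
  have hUo : IsOpen U := ((isOpen_biInter_finset fun _ _ => isClosed_closure.isOpen_compl).inter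
    ((isOpen_biInter_finset fun ζ _ => (V ζ).2).inter
      (isOpen_biInter_finset fun _ _ => isClosed_closure.isOpen_compl)))
  have hg'U : g' ∈ U := by
    simp only [U, Set.mem_inter_iff, Set.mem_iInter, Finset.mem_filter, Finset.mem_erase, Set.mem_compl_iff]
    refine ⟨fun a ha hmem => ?_, fun ζ hζ => hζ.2 ▸ hV ζ, fun ζ hζ hmem => ?_⟩
    · have := sdim_lt_of_specializes q (specializes_iff_mem_closure.mpr hmem) ha.1
      have := hmax a ha.2
      omega
    · have h2 : g' ⤳ π ζ := specializes_iff_mem_closure.mpr ((hT ζ).mpr ⟨ζ, hζ.1, specializes_rfl⟩)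
      exact hζ.2 ((specializes_iff_mem_closure.mpr hmem).antisymm h2).eq
  obtain ⟨x, hxU, hxE⟩ := mem_closure_iff.mp ((hG g').mpr ⟨g', hg', specializes_rfl⟩) U hUo hg'U
  simp only [U, Set.mem_inter_iff, Set.mem_iInter, Finset.mem_filter, Finset.mem_erase, Set.mem_compl_iff] at hxU
  obtain ⟨z, rfl, hz⟩ := hxE
  obtain ⟨g₁, hg₁, hs⟩ := (hG (π z)).mp (subset_closure ⟨z, rfl, hz⟩)
  have hg₁' : g₁ = g' := by
    by_contra hne
    exact hxU.1 g₁ ⟨hne, hg₁⟩ (specializes_iff_mem_closure.mp hs)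
  subst hg₁'
  obtain ⟨ζ, hζ, hζz⟩ := (hT z).mp (specializes_iff_mem_closure.mp hs)
  have heq : π ζ = g₁ := by
    by_contra hne
    exact hxU.2.2 ζ ⟨hζ, hne⟩ (specializes_iff_mem_closure.mp (hζz.map π.continuous))
  have h1 := hVu ζ z (hxU.2.1 ζ ⟨hζ, heq⟩) hζz
  have := hn ζ
  rw [heq] at h1
  omega

include q in
theorem dim_le_iff (n : ℕ) :
    topologicalKrullDim C ≤ n ↔
      ∀ j : ℕ, topologicalKrullDim (closure {x : X | (j : WithBot ℕ∞) ≤ topologicalKrullDim (π.fiber x)}) +
        (j : WithBot ℕ∞) ≤ n := by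
  have hset : ∀ j : ℕ, {x : X | (j : WithBot ℕ∞) ≤ topologicalKrullDim (π.fiber x)} =
      {x : X | ∃ z, π z = x ∧ sdim q x + j ≤ sdim (π ≫ q) z} :=
    fun j => Set.ext fun x => le_dim_fiber_iff q π x j
  rw [forall_congr' fun j => by rw [hset j]]
  constructor
  · intro h j
    have hn : ∀ z, sdim (π ≫ q) z ≤ n := fun z => by
      rw [dim_eq_iSup_sdim (π ≫ q)] at h
      exact_mod_cast le_trans (le_iSup (fun z : C => ((sdim (π ≫ q) z : ℕ) : WithBot ℕ∞)) z) h
    by_cases hjn : j ≤ n
    · refine le_trans (add_le_add (b := ((n - j : ℕ) : WithBot ℕ∞)) ?_ le_rfl) ?_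
      · rw [topologicalKrullDim_isClosed_eq_iSup_height isClosed_closure]
        refine iSup_le fun g => ?_
        rw [height_eq_sdim q]
        have := sdim_le_of_mem_closure q π hn j g.2
        exact WithBot.coe_le_coe.mpr (Nat.cast_le.mpr (by omega : sdim q (g : X) ≤ n - j))
      · exact_mod_cast (by omega : n - j + j ≤ n)
    · have he : closure {x : X | ∃ z, π z = x ∧ sdim q x + j ≤ sdim (π ≫ q) z} = ∅ :=
        Set.eq_empty_iff_forall_notMem.mpr fun g hg => by
          have := sdim_le_of_mem_closure q π hn j hg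
          omega
      rw [topologicalKrullDim_isClosed_eq_iSup_height isClosed_closure, he]
      simp
  · intro h
    rw [dim_eq_iSup_sdim (π ≫ q)]
    refine iSup_le fun z => ?_
    have hle : sdim q (π z) ≤ sdim (π ≫ q) z := sdim_le_comp q π z
    have h1 := h (sdim (π ≫ q) z - sdim q (π z))
    refine le_trans ?_ h1
    rw [topologicalKrullDim_isClosed_eq_iSup_height isClosed_closure]
    let y : closure {x : X | ∃ w, π w = x ∧
        sdim q x + (sdim (π ≫ q) z - sdim q (π z)) ≤ sdim (π ≫ q) w} :=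
      ⟨π z, subset_closure ⟨z, rfl, by omega⟩⟩
    refine le_trans ?_ (add_le_add (le_iSup _ y) le_rfl)
    rw [height_eq_sdim q]
    refine le_of_le_of_eq (Nat.cast_le.mpr (by omega : sdim (π ≫ q) z ≤ sdim q (π z) + (sdim (π ≫ q) z - sdim q (π z)))) ?_
    rw [Nat.cast_add]
    rfl

end Groth.Agent.CharDimH7
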