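import Groth.Agent.Lib.CharDimH7.Preimage
import Groth.Prelude.Def_RegImm
import Mathlib

/-!
Components of inverse images of subschemes cut out locally by `c` equations.
-/

open CategoryTheory CategoryTheory.Limits AlgebraicGeometry Order Topology TopologicalSpace

universe u

namespace Groth.Agent.CharDimH7

open VarDim

variable {k : Type u} [Field k] {C X W : Scheme.{u}} (q : X ⟶ Spec (CommRingCat.of k)) (π : C ⟶ X)
  (ι : W ⟶ X) [LocallyOfFiniteType q] [LocallyOfFiniteType π] [CompactSpace C] [CompactSpace X]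

omit [CompactSpace X] in
theorem mem_range_iff_of_isClosedImmersion (U : X.affineOpens) [IsClosedImmersion (ι ∣_ U.1)]
    (x : X) (hx : x ∈ U.1) :
    x ∈ Set.range ι ↔ ∀ r ∈ RingHom.ker (ι.app U.1).hom, x ∉ X.basicOpen r := by
  constructor
  · rintro ⟨w, rfl⟩ r hr hmem
    have h1 : w ∈ ι ⁻¹ᵁ X.basicOpen r := hmem
    rw [Scheme.preimage_basicOpen, show ι.app U.1 r = 0 from hr, Scheme.basicOpen_zero] at h1
    exact h1.elim
  · intro h
    by_contra hne
    have hU' : IsAffineOpen (ι ⁻¹ᵁ U.1) := by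
      haveI : IsAffine (U.1 : Scheme.{u}) := U.2
      exact isAffine_of_isAffineHom (ι ∣_ U.1)
    have hcl : IsClosed (Set.range (ι ∣_ U.1)) := (Scheme.Hom.isClosedEmbedding (ι ∣_ U.1)).isClosed_range
    obtain ⟨O, hO, hOeq⟩ := isOpen_induced_iff.mp hcl.isOpen_compl
    have hxO : x ∈ O := by
      have : (⟨x, hx⟩ : U.1) ∈ (Set.range (ι ∣_ U.1))ᶜ := by
        rintro ⟨w, hw⟩
        exact hne ⟨(ι ⁻¹ᵁ U.1).ι w, (morphismRestrict_base_coe ι U.1 w).symm.trans (congrArg Subtype.val hw)⟩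
      exact (Set.ext_iff.mp hOeq ⟨x, hx⟩).mpr this
    obtain ⟨r, hrO, hxr⟩ := U.2.exists_basicOpen_le (V := ⟨O, hO⟩) ⟨x, hxO⟩ hx
    have hemp : W.basicOpen (ι.app U.1 r) = ⊥ := by
      rw [← Scheme.preimage_basicOpen, eq_bot_iff]
      intro w hw
      have hwU : w ∈ ι ⁻¹ᵁ U.1 := X.basicOpen_le r hw
      have hmem : (⟨ι w, hwU⟩ : U.1) ∈ (Set.range (ι ∣_ U.1))ᶜ := by
        rw [← hOeq]; exact hrO hw
      exact (hmem ⟨⟨w, hwU⟩, Subtype.ext (morphismRestrict_base_coe ι U.1 _)⟩).elim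
    obtain ⟨m, hm⟩ : IsNilpotent (ι.app U.1 r) :=
      (Scheme.isNilpotent_iff_basicOpen_eq_bot_of_isCompact hU'.isCompact _).mpr hemp
    refine h (r ^ (m + 1)) ?_ ?_
    · rw [RingHom.mem_ker, map_pow, pow_succ, hm, zero_mul]
    · rw [Scheme.basicOpen_pow _ _ (Nat.succ_pos m)]
      exact hxr

theorem ge_of_minimal (c : ℕ) {U : X.affineOpens} [IsClosedImmersion (ι ∣_ U.1)] (rs : List Γ(X, U.1))
    (hlen : rs.length = c) (hker : RingHom.ker (ι.app U.1).hom = Ideal.ofList rs)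
    {η g : C} (hgU : π g ∈ U.1) (hη : η ⤳ g) (hg : π g ∈ Set.range ι)
    (hmin : ∀ z, η ⤳ z → z ⤳ g → π z ∈ Set.range ι → z = g) :
    sdim (π ≫ q) η ≤ sdim (π ≫ q) g + c := by
  classical
  obtain ⟨V, hV, hgV, hVU⟩ := exists_isAffineOpen_mem_and_subset (U := π ⁻¹ᵁ U.1) (x := g) hgU
  have hηV : η ∈ V := hη.mem_open V.2 hgV
  letI : Algebra k Γ(C, V) := (baseToSections (π ≫ q) V).toAlgebra
  haveI : Algebra.FiniteType k Γ(C, V) := finiteType_baseToSections (π ≫ q) hV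
  haveI : IsNoetherianRing Γ(C, V) := Algebra.FiniteType.isNoetherianRing k _
  set pη := (hV.primeIdealOf ⟨η, hηV⟩).asIdeal with hpη
  set pg := (hV.primeIdealOf ⟨g, hgV⟩).asIdeal with hpg
  let φ := (π.appLE U.1 V hVU).hom
  have hbasic : ∀ (r : Γ(X, U.1)) (z : C) (hz : z ∈ V),
      π z ∈ X.basicOpen r ↔ φ r ∉ (hV.primeIdealOf ⟨z, hz⟩).asIdeal := fun r z hz => by
    rw [← ker_evaluation hV z hz, RingHom.mem_ker]
    refine Iff.trans ?_ (Scheme.evaluation_ne_zero_iff_mem_basicOpen C z hz (φ r)).symm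
    rw [show C.basicOpen (φ r) = V ⊓ π ⁻¹ᵁ X.basicOpen r from Scheme.basicOpen_appLE ..]
    exact ⟨fun h => ⟨hz, h⟩, fun h => h.2⟩
  let I : Ideal Γ(C, V) := (Ideal.ofList rs).map φ
  have hI : ∀ (z : C) (hz : z ∈ V), π z ∈ Set.range ι ↔ I ≤ (hV.primeIdealOf ⟨z, hz⟩).asIdeal := by
    intro z hz
    rw [mem_range_iff_of_isClosedImmersion ι U (π z) (hVU hz), hker, Ideal.map_le_iff_le_comap]
    exact forall_congr' fun r => imp_congr_right fun _ => by rw [hbasic r z hz, not_not, Ideal.mem_comap]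
  have hle : pη ≤ pg := (primeIdealOf_le_iff hV ⟨η, hηV⟩ ⟨g, hgV⟩).mpr hη
  let m := Ideal.Quotient.mk pη
  haveI : IsDomain (Γ(C, V) ⧸ pη) := Ideal.Quotient.isDomain pη
  let q' : PrimeSpectrum (Γ(C, V) ⧸ pη) :=
    ⟨pg.map m, Ideal.map_isPrime_of_surjective Ideal.Quotient.mk_surjective (by rw [Ideal.mk_ker]; exact hle)⟩
  have hq' : (pg.map m).comap m = pg := by
    rw [Ideal.comap_map_of_surjective m Ideal.Quotient.mk_surjective, ← RingHom.ker_eq_comap_bot,
      Ideal.mk_ker, sup_eq_left.mpr hle]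
  have hmem : q'.asIdeal ∈ (I.map m).minimalPrimes := by
    refine ⟨⟨q'.2, Ideal.map_mono ((hI g hgV).mp hg)⟩, fun J hJ hJle => ?_⟩
    haveI := hJ.1
    let P' : PrimeSpectrum Γ(C, V) := ⟨J.comap m, Ideal.IsPrime.comap m⟩
    let z := hV.fromSpec P'
    have hzV : z ∈ V := fromSpec_mem hV P'
    have hz : hV.primeIdealOf ⟨z, hzV⟩ = P' := primeIdealOf_fromSpec hV P'
    have h1 : η ⤳ z := (primeIdealOf_le_iff hV ⟨η, hηV⟩ ⟨z, hzV⟩).mp (by
      rw [hz]
      intro a ha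
      show m a ∈ J
      rw [Ideal.Quotient.eq_zero_iff_mem.mpr ha]
      exact zero_mem J)
    have h2 : z ⤳ g := (primeIdealOf_le_iff hV ⟨z, hzV⟩ ⟨g, hgV⟩).mp (by
      rw [hz]
      exact fun a ha => hq'.le (Ideal.comap_mono hJle ha))
    have h3 : π z ∈ Set.range ι := (hI z hzV).mpr (by rw [hz]; exact Ideal.map_le_iff_le_comap.mp hJ.2)
    have h4 : z = g := hmin z h1 h2 h3
    have h5 : P'.asIdeal = pg := by
      rw [← hz]
      exact congrArg (fun p : V => (hV.primeIdealOf p).asIdeal) (Subtype.ext h4)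
    calc q'.asIdeal = pg.map m := rfl
      _ = P'.asIdeal.map m := by rw [h5]
      _ ≤ J := Ideal.map_comap_le
  have hheight : q'.asIdeal.height ≤ c := by
    let s : Finset (Γ(C, V) ⧸ pη) := (rs.map (fun r => m (φ r))).toFinset
    have hs : I.map m = Ideal.span (s : Set (Γ(C, V) ⧸ pη)) := by
      simp only [I, Ideal.map_ofList, List.map_map]
      show Ideal.span _ = Ideal.span _
      congr 1
      ext a
      simp [s]
    haveI := q'.2
    refine le_trans (Ideal.height_le_card_of_mem_minimalPrimes_span_finset (s := s) (hs ▸ hmem)) ?_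
    exact_mod_cast (List.toFinset_card_le _).trans (by simp [hlen])
  rw [PrimeSpectrum.height_eq_orderHeight] at hheight
  have key := height_add_coheight_nat k (Γ(C, V) ⧸ pη) q'
  have h6 : (sdim (π ≫ q) η : ℕ∞) = (tdeg k (Γ(C, V) ⧸ pη) : ℕ∞) := by
    rw [← sdim_eq_coheight (π ≫ q) hV η hηV, coheight_eq_tdeg k]
  have h7 : coheight q' ≤ (sdim (π ≫ q) g : ℕ∞) := by
    rw [← sdim_eq_coheight (π ≫ q) hV g hgV]
    have h8 := coheight_le_coheight_apply_of_strictMono _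
      (RingHom.strictMono_comap_of_surjective (f := m) Ideal.Quotient.mk_surjective) q'
    rwa [show PrimeSpectrum.comap m q' = hV.primeIdealOf ⟨g, hgV⟩ from PrimeSpectrum.ext hq'] at h8
  have h9 : (sdim (π ≫ q) η : ℕ∞) ≤ c + sdim (π ≫ q) g := by
    rw [h6, ← key]
    exact add_le_add hheight h7
  have : sdim (π ≫ q) η ≤ c + sdim (π ≫ q) g := by exact_mod_cast h9
  omega

end Groth.Agent.CharDimH7
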