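import Groth.Agent.Lib.CharDimH7.Components

/-!
All components of the inverse image have the expected dimension iff the inverse image is small.
-/

open CategoryTheory CategoryTheory.Limits AlgebraicGeometry Order Topology TopologicalSpace

universe u

namespace Groth.Agent.CharDimH7

open VarDim

variable {k : Type u} [Field k] {C X W : Scheme.{u}} (q : X ⟶ Spec (CommRingCat.of k)) (π : C ⟶ X)
  (ι : W ⟶ X) [LocallyOfFiniteType q] [LocallyOfFiniteType π] [IsImmersion ι]

omit [LocallyOfFiniteType π] [LocallyOfFiniteType q] in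
theorem sdim_fst (p : (pullback π ι : Scheme.{u})) :
    sdim (pullback.fst π ι ≫ π ≫ q) p = sdim (π ≫ q) (pullback.fst π ι p) :=
  sdim_comp_of_surjective (π ≫ q) (pullback.fst π ι) p

include q in
/-- A component of the intersection with a closed set is the closure of a single point. -/
theorem exists_generic {P : Set C} (hP : IsClosed P)
    {Q : Set (P ∩ π ⁻¹' Set.range ι : Set C)}
    (hQ : Q ∈ irreducibleComponents (P ∩ π ⁻¹' Set.range ι : Set C)) :
    ∃ g, g ∈ Q ∧ topologicalKrullDim Q = (sdim (π ≫ q) (g : C) : WithBot ℕ∞) ∧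
      (∀ z, z ∈ Q → sdim (π ≫ q) (z : C) ≤ sdim (π ≫ q) (g : C)) ∧
      ∀ z, z ∈ P → z ⤳ (g : C) → π z ∈ Set.range ι → z = (g : C) := by
  let f := pullback.fst π ι
  have hfe : IsEmbedding f := Scheme.Hom.isEmbedding f
  have hr : Set.range f = π ⁻¹' Set.range ι := range_fst π ι
  have hmem : ∀ p, f p ∈ P → f p ∈ P ∩ π ⁻¹' Set.range ι := fun p hp => ⟨hp, hr ▸ Set.mem_range_self p⟩
  let e : (f ⁻¹' P : Set (pullback π ι : Scheme.{u})) → (P ∩ π ⁻¹' Set.range ι : Set C) :=
    fun p => ⟨f p.1, hmem p.1 p.2⟩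
  have he : IsEmbedding e := IsEmbedding.of_comp (by have := f.continuous; fun_prop) continuous_subtype_val
    (hfe.comp IsEmbedding.subtypeVal)
  have hes : Function.Surjective e := fun z => by
    obtain ⟨p, hp⟩ := hr.ge z.2.2
    exact ⟨⟨p, by rw [Set.mem_preimage, hp]; exact z.2.1⟩, Subtype.ext hp⟩
  let h := he.toHomeomorphOfSurjective hes
  haveI : QuasiSober (f ⁻¹' P : Set (pullback π ι : Scheme.{u})) :=
    (hP.preimage f.continuous).isClosedEmbedding_subtypeVal.quasiSober
  haveI : QuasiSober (P ∩ π ⁻¹' Set.range ι : Set C) := h.symm.isClosedEmbedding.quasiSober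
  have hQc := isClosed_of_mem_irreducibleComponents Q hQ
  have hQi : IsIrreducible Q := hQ.1
  let g := hQi.genericPoint
  have hgQ : g ∈ Q := by
    have := hQi.isGenericPoint_genericPoint hQc
    exact this.mem
  have hgQ' : Q = closure {g} := (hQi.closure_genericPoint hQc).symm
  obtain ⟨p, hp⟩ := hes g
  have hpg : f p.1 = (g : C) := congrArg Subtype.val hp
  refine ⟨g, hgQ, ?_, fun z hz => ?_, fun z hzP hzg hzT => ?_⟩
  · have hcl : closure ({p.1} : Set (pullback π ι : Scheme.{u})) ⊆ f ⁻¹' P :=
      closure_minimal (Set.singleton_subset_iff.mpr p.2) (hP.preimage f.continuous)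
    have hsub : ∀ x (hx : x ∈ closure ({p.1} : Set (pullback π ι : Scheme.{u}))), e ⟨x, hcl hx⟩ ∈ Q := by
      intro x hx
      rw [hgQ', ← specializes_iff_mem_closure, ← hp]
      exact ((subtype_specializes_iff p ⟨x, hcl hx⟩).mpr (specializes_iff_mem_closure.mpr hx)).map he.continuous
    let F : closure ({p.1} : Set (pullback π ι : Scheme.{u})) → Q := fun x => ⟨e ⟨x.1, hcl x.2⟩, hsub x.1 x.2⟩
    have hF : IsEmbedding F := IsEmbedding.of_comp
      (by have := he.continuous; fun_prop) continuous_subtype_val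
      (he.comp (Topology.IsEmbedding.inclusion hcl))
    have hFs : Function.Surjective F := fun y => by
      obtain ⟨x, hx⟩ := hes y.1
      have h1 : g ⤳ y.1 := specializes_iff_mem_closure.mpr (hgQ' ▸ y.2)
      rw [← hp, ← hx, he.isInducing.specializes_iff, subtype_specializes_iff] at h1
      exact ⟨⟨x.1, specializes_iff_mem_closure.mp h1⟩, Subtype.ext hx⟩
    rw [← (IsHomeomorph.topologicalKrullDim_eq F (hF.toHomeomorphOfSurjective hFs).isHomeomorph),
      dim_closure_singleton (f ≫ π ≫ q), sdim_fst, hpg]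
  · have h1 : g ⤳ z := specializes_iff_mem_closure.mpr (hgQ' ▸ hz)
    rcases eq_or_ne (g : C) (z : C) with h2 | h2
    · exact h2 ▸ le_rfl
    · exact (sdim_lt_of_specializes (π ≫ q) ((subtype_specializes_iff g z).mp h1) h2).le
  · let z' : (P ∩ π ⁻¹' Set.range ι : Set C) := ⟨z, hzP, hzT⟩
    have h1 : z' ⤳ g := (subtype_specializes_iff z' g).mpr hzg
    have h2 : Q ⊆ closure {z'} := by
      rw [hgQ']
      exact closure_minimal (Set.singleton_subset_iff.mpr (specializes_iff_mem_closure.mp h1)) isClosed_closure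
    have h3 : closure {z'} ⊆ Q := hQ.2 isIrreducible_singleton.closure h2
    have h4 : g ⤳ z' := specializes_iff_mem_closure.mpr (hgQ' ▸ h3 (subset_closure rfl))
    exact congrArg Subtype.val (h1.antisymm h4).eq

variable [CompactSpace C] [CompactSpace X]

include q in
theorem components_dim_iff (n c : ℕ)
    (hι : ∀ w : W, ∃ U : X.affineOpens, ι w ∈ U.1 ∧ IsClosedImmersion (ι ∣_ U.1) ∧
      ∃ rs : List Γ(X, U.1), rs.length = c ∧ RingHom.ker (ι.app U.1).hom = Ideal.ofList rs)
    (hC : ∀ P ∈ irreducibleComponents (C : Type u), topologicalKrullDim P = n) :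
    (∀ P ∈ irreducibleComponents (C : Type u), ∀ Q ∈ irreducibleComponents (P ∩ π ⁻¹' Set.range ι : Set C),
        topologicalKrullDim Q + (c : WithBot ℕ∞) = n) ↔
      topologicalKrullDim (π ⁻¹' Set.range ι : Set C) + (c : WithBot ℕ∞) ≤ n := by
  have hgen : ∀ P ∈ irreducibleComponents (C : Type u), ∀ Q ∈ irreducibleComponents (P ∩ π ⁻¹' Set.range ι : Set C),
      ∀ g : (P ∩ π ⁻¹' Set.range ι : Set C), topologicalKrullDim Q = (sdim (π ≫ q) (g : C) : WithBot ℕ∞) →
      (topologicalKrullDim Q + (c : WithBot ℕ∞) = n ↔ sdim (π ≫ q) (g : C) + c = n) := by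
    intro P _ Q _ g hg
    rw [hg]
    exact ⟨fun h => by exact_mod_cast h, fun h => by exact_mod_cast h⟩
  constructor
  · intro h
    rw [add_natCast_le_iff]
    by_cases he : IsEmpty (π ⁻¹' Set.range ι : Set C)
    · exact Or.inl (dim_eq_bot_iff.mpr he)
    have key : ∀ z : C, π z ∈ Set.range ι → sdim (π ≫ q) z + c ≤ n := fun z hz => by
      let P := irreducibleComponent z
      have hP := irreducibleComponent_mem_irreducibleComponents z
      let z' : (P ∩ π ⁻¹' Set.range ι : Set C) := ⟨z, mem_irreducibleComponent, hz⟩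
      obtain ⟨g, -, hdim, hle, -⟩ := exists_generic q π ι isClosed_irreducibleComponent
        (irreducibleComponent_mem_irreducibleComponents z')
      have h1 := (hgen P hP _ (irreducibleComponent_mem_irreducibleComponents z') g hdim).mp
        (h P hP _ (irreducibleComponent_mem_irreducibleComponents z'))
      have h2 := hle z' mem_irreducibleComponent
      have h3 : sdim (π ≫ q) z ≤ sdim (π ≫ q) (g : C) := h2
      omega
    obtain ⟨⟨z, hz⟩⟩ := not_isEmpty_iff.mp he
    refine Or.inr ⟨by have := key z hz; omega, ?_⟩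
    rw [dim_preimage_range, dim_eq_iSup_sdim (pullback.fst π ι ≫ π ≫ q)]
    refine iSup_le fun p => ?_
    have hp : π (pullback.fst π ι p) ∈ Set.range ι := (range_fst π ι).le (Set.mem_range_self p)
    rw [sdim_fst]
    have := key _ hp
    exact_mod_cast (by omega : sdim (π ≫ q) (pullback.fst π ι p) ≤ n - c)
  · intro h P hP Q hQ
    have hPc := isClosed_of_mem_irreducibleComponents P hP
    obtain ⟨g, -, hdim, -, hmin⟩ := exists_generic q π ι hPc hQ
    refine (hgen P hP Q hQ g hdim).mpr (le_antisymm ?_ ?_)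
    · obtain ⟨p, hp⟩ := (range_fst π ι).ge g.2.2
      rw [dim_preimage_range, add_natCast_le_iff, dim_eq_iSup_sdim (pullback.fst π ι ≫ π ≫ q)] at h
      have h1 := le_iSup (fun p : (pullback π ι : Scheme.{u}) =>
        ((sdim (pullback.fst π ι ≫ π ≫ q) p : ℕ) : WithBot ℕ∞)) p
      rcases h with h | ⟨hc, h⟩
      · rw [h] at h1
        exact absurd h1 (WithBot.bot_lt_coe _).not_ge
      · have h2 := h1.trans h
        rw [sdim_fst, hp] at h2
        have : sdim (π ≫ q) (g : C) ≤ n - c := by exact_mod_cast h2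
        omega
    · obtain ⟨w, hw⟩ := g.2.2
      obtain ⟨U, hwU, hcl, rs, hlen, hker⟩ := hι w
      haveI := hcl
      have hη := (hP.1.isGenericPoint_genericPoint hPc)
      set η := hP.1.genericPoint
      have hn : sdim (π ≫ q) η = n := by
        have h1 := hC P hP
        rw [dim_irreducible_isClosed (π ≫ q) hPc hP.1] at h1
        exact_mod_cast h1
      have := ge_of_minimal q π ι c rs hlen hker (η := η) (g := (g : C)) (hw ▸ hwU)
        (hη.specializes g.2.1) g.2.2 (fun z h1 h2 h3 => hmin z (h1.mem_closed hPc hη.mem) h2 h3)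
      omega

end Groth.Agent.CharDimH7
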