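import Groth.Agent.Lib.CharDimH7.WellInt
import Groth.Agent.Lib.FibDim14.BaseChange
import Mathlib

/-!
Dimensions of locally closed subsets under base change by morphisms with fibres of dimension `d`.
-/

open CategoryTheory CategoryTheory.Limits AlgebraicGeometry Order Topology TopologicalSpace

universe u

namespace Groth.Agent.CharDimH7

open VarDim

variable {k : Type u} [Field k]

theorem dim_closed_inter_open {Z : Scheme.{u}} (q : Z ⟶ Spec (CommRingCat.of k)) [LocallyOfFiniteType q]
    {F U : Set Z} (hF : IsClosed F) (hU : IsOpen U) :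
    topologicalKrullDim (F ∩ U : Set Z) = ⨆ z : (F ∩ U : Set Z), ((sdim q (z : Z) : ℕ) : WithBot ℕ∞) := by
  let D : Z.Opens := ⟨U, hU⟩
  let e : (D.ι ⁻¹' F : Set D.toScheme) → (F ∩ U : Set Z) := fun p => ⟨D.ι p.1, p.2, (p.1 : D).2⟩
  have he : IsEmbedding e := IsEmbedding.of_comp (by have := D.ι.continuous; fun_prop) continuous_subtype_val
    (D.ι.isOpenEmbedding.isEmbedding.comp IsEmbedding.subtypeVal)
  have hes : Function.Surjective e := fun z => ⟨⟨(⟨z.1, z.2.2⟩ : D), z.2.1⟩, Subtype.ext rfl⟩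
  rw [← (IsHomeomorph.topologicalKrullDim_eq e (he.toHomeomorphOfSurjective hes).isHomeomorph),
    topologicalKrullDim_isClosed_eq_iSup_height (hF.preimage D.ι.continuous)]
  refine le_antisymm (iSup_le fun p => ?_) (iSup_le fun z => ?_)
  · refine le_trans (le_of_eq ?_) (le_iSup _ (e p))
    rw [height_eq_sdim (D.ι ≫ q), sdim_comp_of_surjective q D.ι p.1]
    rfl
  · obtain ⟨p, rfl⟩ := hes z
    refine le_trans (le_of_eq ?_) (le_iSup _ p)
    rw [height_eq_sdim (D.ι ≫ q), sdim_comp_of_surjective q D.ι p.1]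
    rfl

theorem dim_preimage_shift {Z Z' : Scheme.{u}} (q : Z ⟶ Spec (CommRingCat.of k)) [LocallyOfFiniteType q]
    (h : Z' ⟶ Z) [LocallyOfFiniteType h] (d : ℕ) (hle : ∀ z', FibDim14.rd h z' ≤ d)
    (hex : ∀ z, ∃ z', h z' = z ∧ FibDim14.rd h z' = d) {F U : Set Z} (hF : IsClosed F) (hU : IsOpen U) :
    topologicalKrullDim (h ⁻¹' (F ∩ U) : Set Z') = topologicalKrullDim (F ∩ U : Set Z) + d := by
  have hadd : ∀ z', sdim (h ≫ q) z' = sdim q (h z') + FibDim14.rd h z' := fun z' => by
    obtain ⟨w, hw⟩ : ∃ w, h.fiberι (h z') w = z' := ⟨h.asFiber z', h.fiberι_asFiber z'⟩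
    have := sdim_fiber q h (h z') w
    rw [hw] at this
    rw [this, show sdim (h.fiberToSpecResidueField (h z')) w = sdim (FibDim14.toPt h (h z')) w from rfl,
      ← FibDim14.rd_fiberι, hw]
  rw [Set.preimage_inter, dim_closed_inter_open (h ≫ q) (hF.preimage h.continuous) (hU.preimage h.continuous),
    dim_closed_inter_open q hF hU]
  by_cases he : Nonempty (F ∩ U : Set Z)
  · refine le_antisymm (iSup_le fun z' => ?_) ?_
    · refine le_trans ?_ (add_le_add (le_iSup _ (⟨h z'.1, z'.2⟩ : (F ∩ U : Set Z))) le_rfl)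
      rw [hadd]
      exact_mod_cast (add_le_add le_rfl (hle z'.1))
    · have key : ∀ z : (F ∩ U : Set Z), ((sdim q (z : Z) : ℕ) : WithBot ℕ∞) + d ≤
          ⨆ z' : (h ⁻¹' F ∩ h ⁻¹' U : Set Z'), ((sdim (h ≫ q) (z' : Z') : ℕ) : WithBot ℕ∞) := fun z => by
        obtain ⟨z', hz', hd⟩ := hex z
        refine le_trans ?_ (le_iSup _ (⟨z', show h z' ∈ F from hz'.symm ▸ z.2.1, show h z' ∈ U from hz'.symm ▸ z.2.2⟩ : (h ⁻¹' F ∩ h ⁻¹' U : Set Z')))
        rw [hadd]
        show _ ≤ ((sdim q (h z') + FibDim14.rd h z' : ℕ) : WithBot ℕ∞)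
        rw [hd, Nat.cast_add, hz']
      generalize hR : (⨆ z' : (h ⁻¹' F ∩ h ⁻¹' U : Set Z'), ((sdim (h ≫ q) (z' : Z') : ℕ) : WithBot ℕ∞)) = R at key ⊢
      obtain ⟨z₀⟩ := he
      induction R with
      | bot => exact absurd (key z₀) (by rw [← Nat.cast_add]; exact (WithBot.bot_lt_coe _).not_ge)
      | coe r =>
        induction r with
        | top => exact le_top
        | coe r =>
          refine le_trans (add_le_add (iSup_le (a := ((r - d : ℕ) : WithBot ℕ∞)) fun z => ?_) le_rfl) ?_
          · have := key z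
            have h' : sdim q (z : Z) + d ≤ r := by exact_mod_cast this
            exact_mod_cast (by omega : sdim q (z : Z) ≤ r - d)
          · have h' : sdim q (z₀ : Z) + d ≤ r := by exact_mod_cast key z₀
            rw [← Nat.cast_add]
            exact WithBot.coe_le_coe.mpr (Nat.cast_le.mpr (by omega : r - d + d ≤ r))
  · haveI := not_nonempty_iff.mp he
    haveI : IsEmpty (h ⁻¹' F ∩ h ⁻¹' U : Set Z') := ⟨fun z' => he ⟨⟨h z'.1, z'.2⟩⟩⟩
    rw [iSup_of_empty, iSup_of_empty, WithBot.bot_add]

theorem add_le_add_shift_iff (a s y z : WithBot ℕ∞) (d : ℕ) :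
    (a + d) + (s + d) ≤ (y + d) + (z + d) ↔ a + s ≤ y + z := by
  rw [add_add_add_comm a (d : WithBot ℕ∞), add_add_add_comm y (d : WithBot ℕ∞), ← Nat.cast_add]
  generalize a + s = u
  generalize y + z = v
  generalize d + d = n
  induction u with
  | bot => simp
  | coe u =>
    induction v with
    | bot => simp
    | coe v =>
      rw [← WithBot.coe_natCast, ← WithBot.coe_add, ← WithBot.coe_add, WithBot.coe_le_coe, WithBot.coe_le_coe]
      exact ENat.add_le_add_iff_right (ENat.coe_ne_top n)

/-- The base change of a morphism with fibres of dimension `d` has the two properties of `dim_preimage_shift`. -/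
theorem rd_props {S S' Z Z' : Scheme.{u}} {g : S' ⟶ S} [LocallyOfFiniteType g] [Surjective g] (d : ℕ)
    (hd : ∀ s : S, topologicalKrullDim (g.fiber s) = d) {a : Z ⟶ S} {h : Z' ⟶ Z} {b : Z' ⟶ S'}
    [LocallyOfFiniteType h] (sq : IsPullback b h g a) :
    (∀ z', FibDim14.rd h z' ≤ d) ∧ ∀ z, ∃ z', h z' = z ∧ FibDim14.rd h z' = d := by
  have hrd : ∀ x, FibDim14.rd g x ≤ d := fun x => by
    rw [← g.fiberι_asFiber x, FibDim14.rd_fiberι]
    have := le_iSup (fun w : g.fiber (g x) => ((sdim (FibDim14.toPt g (g x)) w : ℕ) : WithBot ℕ∞)) (g.asFiber x)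
    rw [← dim_eq_iSup_sdim (FibDim14.toPt g (g x)), hd] at this
    exact_mod_cast this
  refine ⟨fun z' => (FibDim14.rd_baseChange_le sq z').trans (hrd _), fun z => ?_⟩
  have hmax : ∃ x, g x = a z ∧ d ≤ FibDim14.rd g x := by
    by_contra hne
    push Not at hne
    obtain ⟨x₀, hx₀⟩ := g.surjective (a z)
    have hd0 := hne x₀ hx₀
    have : topologicalKrullDim (g.fiber (a z)) ≤ ((d - 1 : ℕ) : WithBot ℕ∞) := by
      rw [dim_eq_iSup_sdim (FibDim14.toPt g (a z))]
      refine iSup_le fun w => ?_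
      have hw : g (g.fiberι (a z) w) = a z := (Scheme.Hom.range_fiberι g (a z)).le ⟨w, rfl⟩
      have := hne _ hw
      rw [FibDim14.rd_fiberι] at this
      exact_mod_cast (by omega : sdim (FibDim14.toPt g (a z)) w ≤ d - 1)
    rw [hd] at this
    have : d ≤ d - 1 := by exact_mod_cast this
    omega
  obtain ⟨x, hx, hxd⟩ := hmax
  obtain ⟨z', -, hz', hz''⟩ := FibDim14.exists_over_rd_eq sq x z hx
  exact ⟨z', hz', hz''.trans (le_antisymm (hrd x) hxd)⟩

variable {X S S' : Scheme.{u}} (q : S ⟶ Spec (CommRingCat.of k)) (f : X ⟶ S) (g : S' ⟶ S)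
  [LocallyOfFiniteType q] [LocallyOfFiniteType f] [LocallyOfFiniteType g] [Surjective g] [IsSeparated f]

include q in
theorem wellIntersect_iff_baseChange (d : ℕ) (hd : ∀ s : S, topologicalKrullDim (g.fiber s) = d)
    (Y Z : Set X) (hY : IsClosed Y) (hZ : IsClosed Z) :
    (topologicalKrullDim (offDiag f Y Z) + topologicalKrullDim S ≤ topologicalKrullDim Y + topologicalKrullDim Z) ↔
      (topologicalKrullDim (offDiag (pullback.snd f g) (pullback.fst f g ⁻¹' Y) (pullback.fst f g ⁻¹' Z)) +
        topologicalKrullDim S' ≤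
          topologicalKrullDim (pullback.fst f g ⁻¹' Y) + topologicalKrullDim (pullback.fst f g ⁻¹' Z)) := by
  let f' := pullback.snd f g
  let u := pullback.fst f g
  let P' := pullback f' f'
  let π : P' ⟶ (pullback f f : Scheme.{u}) :=
    pullback.lift (pullback.fst f' f' ≫ u) (pullback.snd f' f' ≫ u) (by
      rw [Category.assoc, Category.assoc, show u ≫ f = f' ≫ g from pullback.condition,
        ← Category.assoc, pullback.condition, Category.assoc])
  have sqX : IsPullback u f' f g := IsPullback.of_hasPullback f g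
  have sq1 : IsPullback π (pullback.fst f' f') (pullback.fst f f) u := by
    have big : IsPullback (pullback.snd f' f' ≫ u) (pullback.fst f' f') f (f' ≫ g) :=
      (IsPullback.of_hasPullback f' f').flip.paste_horiz sqX
    rw [show f' ≫ g = u ≫ f from sqX.w.symm] at big
    have h1 : π ≫ pullback.snd f f = pullback.snd f' f' ≫ u := pullback.lift_snd _ _ _
    rw [← h1] at big
    exact IsPullback.of_right big (pullback.lift_fst _ _ _) (IsPullback.of_hasPullback f f).flip
  have sqP : IsPullback π (pullback.fst f' f' ≫ f') (pullback.fst f f ≫ f) g := sq1.paste_vert sqX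
  haveI : LocallyOfFiniteType π := MorphismProperty.of_isPullback sqP.flip ‹LocallyOfFiniteType g›
  haveI : LocallyOfFiniteType u := inferInstance
  have hπ1 : π ≫ pullback.fst f f = pullback.fst f' f' ≫ u := pullback.lift_fst _ _ _
  have hπ2 : π ≫ pullback.snd f f = pullback.snd f' f' ≫ u := pullback.lift_snd _ _ _
  have hdiag : π ⁻¹' (Set.range (pullback.diagonal f))ᶜ = (Set.range (pullback.diagonal f'))ᶜ := by
    rw [Set.preimage_compl]
    congr 1
    ext p
    constructor
    · rintro ⟨x, hx⟩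
      obtain ⟨w, -, hw⟩ := Scheme.Pullback.exists_preimage_pullback (f := pullback.diagonal f) (g := π) x p hx
      let a := pullback.fst (pullback.diagonal f) π
      let b := pullback.snd (pullback.diagonal f) π
      have hc : a ≫ pullback.diagonal f = b ≫ π := pullback.condition
      have h1 : (b ≫ pullback.fst f' f') ≫ u = a := by
        have := congrArg (· ≫ pullback.fst f f) hc
        simp only [Category.assoc, pullback.diagonal_fst, pullback.diagonal_snd, hπ1, hπ2, Category.comp_id] at this ⊢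
        exact this.symm
      have h2 : (b ≫ pullback.snd f' f') ≫ u = a := by
        have := congrArg (· ≫ pullback.snd f f) hc
        simp only [Category.assoc, pullback.diagonal_fst, pullback.diagonal_snd, hπ1, hπ2, Category.comp_id] at this ⊢
        exact this.symm
      have h3 : b ≫ pullback.fst f' f' = b ≫ pullback.snd f' f' := by
        refine sqX.hom_ext (h1.trans h2.symm) ?_
        rw [Category.assoc, Category.assoc, pullback.condition]
      have h4 : b = (b ≫ pullback.fst f' f') ≫ pullback.diagonal f' := by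
        apply pullback.hom_ext <;> simp [← h3]
      refine ⟨(b ≫ pullback.fst f' f') w, ?_⟩
      rw [← Scheme.Hom.comp_apply, ← h4]
      exact hw
    · rintro ⟨x, rfl⟩
      refine ⟨u x, ?_⟩
      rw [← Scheme.Hom.comp_apply, ← Scheme.Hom.comp_apply]
      have heq : u ≫ pullback.diagonal f = pullback.diagonal f' ≫ π := by
        apply pullback.hom_ext
        · rw [Category.assoc, pullback.diagonal_fst, Category.comp_id, Category.assoc, hπ1,
            pullback.diagonal_fst_assoc]
        · rw [Category.assoc, pullback.diagonal_snd, Category.comp_id, Category.assoc, hπ2,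
            pullback.diagonal_snd_assoc]
      rw [heq]
  have hD : offDiag f' (u ⁻¹' Y) (u ⁻¹' Z) = π ⁻¹' ((pullback.fst f f ⁻¹' Y ∩ pullback.snd f f ⁻¹' Z) ∩
      (Set.range (pullback.diagonal f))ᶜ) := by
    rw [Set.preimage_inter, hdiag, Set.preimage_inter]
    ext p
    show (pullback.fst f' f' p ∈ u ⁻¹' Y ∧ pullback.snd f' f' p ∈ u ⁻¹' Z ∧ _) ↔
      ((pullback.fst f f (π p) ∈ Y ∧ pullback.snd f f (π p) ∈ Z) ∧ _)
    rw [← Scheme.Hom.comp_apply π (pullback.fst f f) p, hπ1, ← Scheme.Hom.comp_apply π (pullback.snd f f) p, hπ2,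
      Scheme.Hom.comp_apply, Scheme.Hom.comp_apply, and_assoc]
    rfl
  have hD0 : offDiag f Y Z = (pullback.fst f f ⁻¹' Y ∩ pullback.snd f f ⁻¹' Z) ∩
      (Set.range (pullback.diagonal f))ᶜ :=
    Set.ext fun p => ⟨fun h => ⟨⟨h.1, h.2.1⟩, h.2.2⟩, fun h => ⟨h.1.1, h.1.2, h.2⟩⟩
  obtain ⟨hP1, hP2⟩ := rd_props d hd sqP.flip
  obtain ⟨hX1, hX2⟩ := rd_props d hd sqX.flip
  have sqS : IsPullback (𝟙 S') g g (𝟙 S) := IsPullback.of_horiz_isIso ⟨by simp⟩
  obtain ⟨hS1, hS2⟩ := rd_props d hd sqS
  have hu : ∀ {T : Set X}, IsClosed T → topologicalKrullDim (u ⁻¹' T) = topologicalKrullDim T + d := fun {T} hT => by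
    have := dim_preimage_shift (f ≫ q) u d hX1 hX2 hT isOpen_univ
    rwa [Set.inter_univ] at this
  have hS : topologicalKrullDim S' = topologicalKrullDim S + d := by
    have := dim_preimage_shift q g d hS1 hS2 (F := Set.univ) (U := Set.univ) isClosed_univ isOpen_univ
    rw [Set.inter_univ, Set.preimage_univ, (Homeomorph.Set.univ S').isHomeomorph.topologicalKrullDim_eq,
      (Homeomorph.Set.univ S).isHomeomorph.topologicalKrullDim_eq] at this
    exact this
  rw [hu hY, hu hZ, hS, hD, dim_preimage_shift (pullback.fst f f ≫ f ≫ q) π d hP1 hP2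
      ((hY.preimage (pullback.fst f f).continuous).inter (hZ.preimage (pullback.snd f f).continuous))
      (isClosed_range_diagonal f).isOpen_compl, ← hD0]
  exact (add_le_add_shift_iff _ _ _ _ d).symm

end Groth.Agent.CharDimH7
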