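import Groth.Agent.Lib.VarDim.Fibre
import Groth.Agent.Lib.VarDim.Irred

/-!
Bounding local dimensions at the maximal points of a preimage by the dimension of the image.
-/

open CategoryTheory AlgebraicGeometry Order Topology TopologicalSpace

universe u

namespace Groth.Agent.CharDimH7

open VarDim

theorem exists_open_inter_closure_subset {X : Type*} [TopologicalSpace X] {s : Set X}
    (hs : IsConstructible s) (y : X) :
    ∃ W : Set X, IsOpen W ∧ y ∈ W ∧ ((y ∈ s ∧ W ∩ closure {y} ⊆ s) ∨ (y ∉ s ∧ W ∩ closure {y} ⊆ sᶜ)) := by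
  induction hs using IsConstructible.empty_union_induction with
  | open_retrocompact U hUo _ =>
    by_cases hy : y ∈ U
    · exact ⟨U, hUo, hy, Or.inl ⟨hy, Set.inter_subset_left⟩⟩
    · refine ⟨Set.univ, isOpen_univ, trivial, Or.inr ⟨hy, fun x hx hxU => hy ?_⟩⟩
      exact (specializes_iff_mem_closure.mpr hx.2).mem_open hUo hxU
  | union s _ t _ hs ht =>
    obtain ⟨V, hVo, hyV, ⟨hys, hV⟩ | ⟨hys, hV⟩⟩ := hs
    · exact ⟨V, hVo, hyV, Or.inl ⟨Or.inl hys, hV.trans Set.subset_union_left⟩⟩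
    obtain ⟨W, hWo, hyW, ⟨hyt, hW⟩ | ⟨hyt, hW⟩⟩ := ht
    · exact ⟨W, hWo, hyW, Or.inl ⟨Or.inr hyt, hW.trans Set.subset_union_right⟩⟩
    refine ⟨V ∩ W, hVo.inter hWo, ⟨hyV, hyW⟩, Or.inr ⟨fun h => h.elim hys hyt, fun x hx => ?_⟩⟩
    exact fun h => h.elim (hV ⟨hx.1.1, hx.2⟩) (hW ⟨hx.1.2, hx.2⟩)
  | compl s _ hs =>
    obtain ⟨V, hVo, hyV, ⟨hys, hV⟩ | ⟨hys, hV⟩⟩ := hs
    · exact ⟨V, hVo, hyV, Or.inr ⟨fun h => h hys, by rwa [compl_compl]⟩⟩
    · exact ⟨V, hVo, hyV, Or.inl ⟨hys, hV⟩⟩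

variable {k : Type u} [Field k]

theorem sdim_le_dim_of_isConstructible {X : Scheme.{u}} (q : X ⟶ Spec (CommRingCat.of k))
    [LocallyOfFiniteType q] {E : Set X} (hE : IsConstructible E) {y : X} (hy : y ∈ E) :
    (sdim q y : WithBot ℕ∞) ≤ topologicalKrullDim E := by
  obtain ⟨W, hWo, hyW, ⟨-, hW⟩ | ⟨hyn, -⟩⟩ := exists_open_inter_closure_subset hE y
  swap
  · exact absurd hy hyn
  let D : X.Opens := ⟨W, hWo⟩
  let y' : D.toScheme := (⟨y, hyW⟩ : D)
  have h := dim_closure_singleton (D.ι ≫ q) y'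
  rw [sdim_comp_of_surjective q D.ι y'] at h
  refine le_trans (le_of_eq h.symm) ?_
  have hmem : ∀ x ∈ closure ({y'} : Set D.toScheme), D.ι x ∈ E := fun x hx => by
    refine hW ⟨?_, ?_⟩
    · exact (x : D).2
    · exact specializes_iff_mem_closure.mp ((specializes_iff_mem_closure.mpr hx).map D.ι.continuous)
  exact IsInducing.topologicalKrullDim_le
    (f := fun x : closure ({y'} : Set D.toScheme) => (⟨D.ι x.1, hmem x.1 x.2⟩ : E))
    (IsInducing.of_comp (by have := D.ι.continuous; fun_prop) continuous_subtype_val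
      (D.ι.isOpenEmbedding.isEmbedding.isInducing.comp IsInducing.subtypeVal))

theorem length_add_sdim_le {S : Scheme.{u}} (q : S ⟶ Spec (CommRingCat.of k)) [LocallyOfFiniteType q]
    (l : LTSeries S) : l.length + sdim q l.head ≤ sdim q l.last ∧ l.last ⤳ l.head := by
  refine ⟨?_, (l.monotone (Fin.zero_le _) : l.head ≤ l (Fin.last _))⟩
  have hmono : StrictMono fun i => sdim q (l i) := fun i j hij => by
    have h := lt_iff_specializes_and_ne.mp (l.strictMono hij)
    exact sdim_lt_of_specializes q h.1 h.2.symm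
  have hgrow : ∀ i : Fin (l.length + 1), sdim q l.head + (i : ℕ) ≤ sdim q (l i) := by
    intro i
    induction i using Fin.induction with
    | zero => simp [RelSeries.head]
    | succ i ih =>
      have := hmono (Fin.castSucc_lt_succ (i := i))
      simp only [Fin.val_succ, Fin.val_castSucc] at ih this ⊢
      omega
  have h1 := hgrow (Fin.last _)
  rw [Fin.val_last] at h1
  show l.length + sdim q l.head ≤ sdim q (l (Fin.last _))
  omega

variable {S X : Scheme.{u}} (q : X ⟶ Spec (CommRingCat.of k)) (f : S ⟶ X)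
  [LocallyOfFiniteType q] [LocallyOfFiniteType f] [CompactSpace S]

include q in
/-- At a maximal point of a preimage the local dimension is at most the dimension of the image. -/
theorem exists_stalk_dim_le [CompactSpace X] {Z : Set X} (hne : (f ⁻¹' Z).Nonempty) :
    ∃ s, f s ∈ Z ∧ ringKrullDim (S.presheaf.stalk s) ≤ topologicalKrullDim (Set.range f) := by
  classical
  have hbdd : ∃ M, ∀ s ∈ f ⁻¹' Z, sdim (f ≫ q) s ≤ M := by
    haveI : IsLocallyNoetherian S := LocallyOfFiniteType.isLocallyNoetherian (f ≫ q)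
    haveI : IsNoetherian S := {}
    obtain ⟨G, hG⟩ := exists_finite_generic (X := S) (C := (Set.univ : Set S)) isClosed_univ
    refine ⟨G.sup (sdim (f ≫ q)), fun s _ => ?_⟩
    obtain ⟨g, hg, hgs⟩ := (hG s).mp trivial
    refine le_trans ?_ (Finset.le_sup hg)
    rcases eq_or_ne g s with e | e
    · exact e ▸ le_rfl
    · exact (sdim_lt_of_specializes (f ≫ q) hgs e).le
  have hex : ∃ n, ∃ s ∈ f ⁻¹' Z, ∀ t ∈ f ⁻¹' Z, sdim (f ≫ q) t ≤ n ∧ n = sdim (f ≫ q) s := by
    obtain ⟨M, hM⟩ := hbdd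
    obtain ⟨s₀, hs₀⟩ := hne
    let p : ℕ → Prop := fun n => ∃ s ∈ f ⁻¹' Z, sdim (f ≫ q) s = n
    obtain ⟨s, hs, hsn⟩ : p (Nat.findGreatest p M) :=
      Nat.findGreatest_spec (hM s₀ hs₀) ⟨s₀, hs₀, rfl⟩
    exact ⟨_, s, hs, fun t ht => ⟨Nat.le_findGreatest (hM t ht) ⟨t, ht, rfl⟩, hsn.symm⟩⟩
  obtain ⟨n, s, hs, hmax⟩ := hex
  haveI : IsLocallyNoetherian X := LocallyOfFiniteType.isLocallyNoetherian q
  haveI : QuasiCompact f := quasiCompact_of_compactSpace f
  haveI : LocallyOfFinitePresentation f := locallyOfFinitePresentation_of_locallyNoetherian f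
  haveI : IsNoetherian X := {}
  have hE : IsConstructible (Set.range f) := by
    rw [← Set.image_univ]
    exact (f.isLocallyConstructible_image IsLocallyConstructible.univ).isConstructible
  refine ⟨s, hs, ?_⟩
  rw [ringKrullDim_stalk_eq_coheight]
  obtain ⟨a, ha⟩ : ∃ a : ℕ∞, topologicalKrullDim (Set.range f) = (a : WithBot ℕ∞) := by
    refine ⟨_, (WithBot.coe_unbot _ fun h0 => ?_).symm⟩
    have := sdim_le_dim_of_isConstructible q hE ⟨s, rfl⟩
    rw [h0] at this
    exact (WithBot.bot_lt_coe _).not_ge this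
  rw [ha, WithBot.coe_le_coe]
  refine coheight_le fun l hl => ?_
  obtain ⟨h1, h2⟩ := length_add_sdim_le (f ≫ q) l
  rw [hl] at h1 h2
  obtain ⟨x', -, hx's, hfx, hineq⟩ := exists_fibre_lower q f h2
  have hx' : sdim (f ≫ q) x' ≤ sdim (f ≫ q) s :=
    (hmax s hs).2 ▸ (hmax x' (by rw [Set.mem_preimage, hfx]; exact hs)).1
  have h3 := sdim_le_dim_of_isConstructible q hE (⟨l.last, rfl⟩ : f l.last ∈ Set.range f)
  rw [ha] at h3
  refine WithBot.coe_le_coe.mp (le_trans ?_ h3)
  exact_mod_cast (by omega : l.length ≤ sdim q (f l.last))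

end Groth.Agent.CharDimH7
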