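import Groth.Agent.Lib.CharDimH7.Basic
import Mathlib

/-!
Fibre-dimension loci and inverse images of immersed subschemes.
-/

open CategoryTheory CategoryTheory.Limits AlgebraicGeometry Order Topology TopologicalSpace

universe u

namespace Groth.Agent.CharDimH7

open VarDim

theorem add_natCast_le_iff (a : WithBot ℕ∞) (c n : ℕ) :
    a + c ≤ n ↔ a = ⊥ ∨ (c ≤ n ∧ a ≤ ((n - c : ℕ) : WithBot ℕ∞)) := by
  induction a with
  | bot => simp
  | coe a =>
    induction a with
    | top =>
      simp only [WithBot.coe_ne_bot, false_or]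
      refine ⟨fun h => ?_, fun h => ?_⟩
      · rw [show ((⊤ : ℕ∞) : WithBot ℕ∞) + c = ((⊤ + (c : ℕ∞) : ℕ∞) : WithBot ℕ∞) from rfl, top_add,
          ← WithBot.coe_natCast, WithBot.coe_le_coe] at h
        exact absurd h (ENat.coe_lt_top n).not_ge
      · rw [← WithBot.coe_natCast, WithBot.coe_le_coe] at h
        exact absurd h.2 (ENat.coe_lt_top _).not_ge
    | coe a =>
      simp only [WithBot.coe_ne_bot, false_or]
      refine ⟨fun h => ?_, fun h => ?_⟩
      · have h' : a + c ≤ n := by exact_mod_cast h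
        exact ⟨by omega, WithBot.coe_le_coe.mpr (Nat.cast_le.mpr (by omega : a ≤ n - c))⟩
      · have h' : a ≤ n - c := Nat.cast_le.mp (WithBot.coe_le_coe.mp h.2)
        exact_mod_cast (by omega : a + c ≤ n)

theorem dim_eq_bot_iff {T : Type*} [TopologicalSpace T] : topologicalKrullDim T = ⊥ ↔ IsEmpty T := by
  rw [topologicalKrullDim, krullDim_eq_bot_iff]
  constructor
  · intro h
    by_contra hne
    obtain ⟨x⟩ := not_isEmpty_iff.mp hne
    exact h.false ⟨closure {x}, isIrreducible_singleton.closure, isClosed_closure⟩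
  · intro h
    exact ⟨fun s => h.false s.2.1.some⟩

variable {k : Type u} [Field k] {C X W : Scheme.{u}} (q : X ⟶ Spec (CommRingCat.of k)) (π : C ⟶ X)
  (ι : W ⟶ X) [LocallyOfFiniteType q] [LocallyOfFiniteType π] [CompactSpace C] [CompactSpace X]
  [IsImmersion ι]

include q π in
theorem dim_le_of_components {n : ℕ}
    (hC : ∀ P ∈ irreducibleComponents (C : Type u), topologicalKrullDim P = n) :
    topologicalKrullDim C ≤ n := by
  rw [dim_eq_iSup_sdim (π ≫ q)]
  refine iSup_le fun z => ?_
  refine le_trans ?_ (le_of_eq (hC _ (irreducibleComponent_mem_irreducibleComponents z)))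
  rw [← dim_closure_singleton (π ≫ q) z]
  refine IsInducing.topologicalKrullDim_le (f := Set.inclusion ?_) (Topology.IsEmbedding.inclusion _).isInducing
  exact closure_minimal (Set.singleton_subset_iff.mpr mem_irreducibleComponent) isClosed_irreducibleComponent

include q ι in
omit [LocallyOfFiniteType π] [CompactSpace C] in
theorem compactSpace_of_immersion : CompactSpace W := by
  haveI : IsLocallyNoetherian X := LocallyOfFiniteType.isLocallyNoetherian q
  haveI : IsNoetherian X := {}
  haveI : NoetherianSpace W := (Scheme.Hom.isEmbedding ι).isInducing.noetherianSpace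
  infer_instance

omit [LocallyOfFiniteType π] [CompactSpace C] [CompactSpace X] in
theorem range_fst : Set.range (pullback.fst π ι) = π ⁻¹' Set.range ι :=
  Scheme.Pullback.range_fst π ι

omit [LocallyOfFiniteType π] [CompactSpace C] [CompactSpace X] in
theorem dim_preimage_range :
    topologicalKrullDim (π ⁻¹' Set.range ι : Set C) = topologicalKrullDim (pullback π ι : Scheme.{u}) :=
  (IsHomeomorph.topologicalKrullDim_eq _
    (((Scheme.Hom.isEmbedding (pullback.fst π ι)).toHomeomorph.trans
      (Homeomorph.setCongr (range_fst π ι))).isHomeomorph)).symm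

omit [LocallyOfFiniteType π] [CompactSpace C] [CompactSpace X] in
theorem dim_fiber_pullback (w : W) :
    topologicalKrullDim ((pullback.snd π ι).fiber w) = topologicalKrullDim (π.fiber (ι w)) := by
  rw [((pullback.snd π ι).fiberHomeo w).isHomeomorph.topologicalKrullDim_eq,
    (π.fiberHomeo (ι w)).isHomeomorph.topologicalKrullDim_eq]
  have hcomm : ∀ p : (pullback π ι : Scheme.{u}), π (pullback.fst π ι p) = ι (pullback.snd π ι p) := fun p => by
    rw [← Scheme.Hom.comp_apply, ← Scheme.Hom.comp_apply, pullback.condition]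
  let f : ((pullback.snd π ι) ⁻¹' {w} : Set (pullback π ι : Scheme.{u})) → (π ⁻¹' {ι w} : Set C) :=
    fun p => ⟨pullback.fst π ι p.1, (hcomm p.1).trans (congrArg ι p.2)⟩
  have he : IsEmbedding f := IsEmbedding.of_comp (by have := (pullback.fst π ι).continuous; fun_prop)
    continuous_subtype_val ((Scheme.Hom.isEmbedding (pullback.fst π ι)).comp IsEmbedding.subtypeVal)
  have hs : Function.Surjective f := fun z => by
    obtain ⟨p, hp⟩ : (z : C) ∈ Set.range (pullback.fst π ι) := by
      rw [range_fst]; exact ⟨w, z.2.symm⟩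
    refine ⟨⟨p, (Scheme.Hom.isEmbedding ι).injective ?_⟩, Subtype.ext hp⟩
    rw [← hcomm, hp]
    exact z.2
  exact (IsHomeomorph.topologicalKrullDim_eq f (he.toHomeomorphOfSurjective hs).isHomeomorph)

include q in
theorem dim_preimage_le_iff (n c : ℕ)
    (hB : ∀ j : ℕ, IsClosed {x : X | (j : WithBot ℕ∞) ≤ topologicalKrullDim (π.fiber x)}) :
    topologicalKrullDim (π ⁻¹' Set.range ι : Set C) + (c : WithBot ℕ∞) ≤ n ↔
      ∀ j : ℕ, topologicalKrullDim (ι ⁻¹' {x : X | (j : WithBot ℕ∞) ≤ topologicalKrullDim (π.fiber x)} : Set W) +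
        (c : WithBot ℕ∞) + (j : WithBot ℕ∞) ≤ n := by
  haveI := compactSpace_of_immersion q ι
  haveI : IsLocallyNoetherian C := LocallyOfFiniteType.isLocallyNoetherian (π ≫ q)
  haveI : IsNoetherian C := {}
  haveI : NoetherianSpace (pullback π ι : Scheme.{u}) :=
    (Scheme.Hom.isEmbedding (pullback.fst π ι)).isInducing.noetherianSpace
  have hset : ∀ j : ℕ, {w : W | (j : WithBot ℕ∞) ≤ topologicalKrullDim ((pullback.snd π ι).fiber w)} =
      ι ⁻¹' {x : X | (j : WithBot ℕ∞) ≤ topologicalKrullDim (π.fiber x)} := fun j => Set.ext fun w => by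
    show (j : WithBot ℕ∞) ≤ _ ↔ (j : WithBot ℕ∞) ≤ _
    rw [dim_fiber_pullback]
  have hcl : ∀ j : ℕ, closure (ι ⁻¹' {x : X | (j : WithBot ℕ∞) ≤ topologicalKrullDim (π.fiber x)}) =
      ι ⁻¹' {x : X | (j : WithBot ℕ∞) ≤ topologicalKrullDim (π.fiber x)} :=
    fun j => ((hB j).preimage ι.continuous).closure_eq
  rw [dim_preimage_range π ι, add_natCast_le_iff]
  by_cases hcn : c ≤ n
  · have h : topologicalKrullDim (pullback π ι : Scheme.{u}) ≤ ((n - c : ℕ) : WithBot ℕ∞) ↔
        ∀ j : ℕ, topologicalKrullDim (ι ⁻¹' {x : X | (j : WithBot ℕ∞) ≤ topologicalKrullDim (π.fiber x)} : Set W) +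
          (j : WithBot ℕ∞) ≤ ((n - c : ℕ) : WithBot ℕ∞) :=
      (dim_le_iff (ι ≫ q) (pullback.snd π ι) (n - c)).trans
        (forall_congr' fun j => by rw [hset j, hcl j])
    constructor
    · intro hP j
      have hP' : topologicalKrullDim (pullback π ι : Scheme.{u}) ≤ ((n - c : ℕ) : WithBot ℕ∞) :=
        hP.elim (fun e => e.le.trans bot_le) (·.2)
      have := h.mp hP' j
      rw [add_assoc, add_comm (c : WithBot ℕ∞), ← add_assoc, add_natCast_le_iff]
      exact Or.inr ⟨hcn, this⟩
    · intro hj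
      refine Or.inr ⟨hcn, h.mpr fun j => ?_⟩
      have := hj j
      rw [add_assoc, add_comm (c : WithBot ℕ∞), ← add_assoc, add_natCast_le_iff] at this
      exact this.elim (fun e => e.le.trans bot_le) (·.2)
  · constructor
    · intro hP j
      have he : IsEmpty (pullback π ι : Scheme.{u}) :=
        dim_eq_bot_iff.mp (hP.resolve_right fun h => hcn h.1)
      have : topologicalKrullDim (ι ⁻¹' {x : X | (j : WithBot ℕ∞) ≤ topologicalKrullDim (π.fiber x)} : Set W) = ⊥ := by
        refine dim_eq_bot_iff.mpr ⟨fun w => ?_⟩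
        have h1 : (j : WithBot ℕ∞) ≤ topologicalKrullDim ((pullback.snd π ι).fiber w.1) :=
          (Set.ext_iff.mp (hset j) w.1).mpr w.2
        obtain ⟨z, -, -⟩ := (le_dim_fiber_iff (ι ≫ q) (pullback.snd π ι) w.1 j).mp h1
        exact he.false z
      rw [this, WithBot.bot_add, WithBot.bot_add]
      exact bot_le
    · intro hj
      refine Or.inl (dim_eq_bot_iff.mpr ⟨fun p => ?_⟩)
      have hmem : pullback.snd π ι p ∈ ι ⁻¹' {x : X | ((0 : ℕ) : WithBot ℕ∞) ≤ topologicalKrullDim (π.fiber x)} := by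
        rw [← hset]
        exact (le_dim_fiber_iff (ι ≫ q) (pullback.snd π ι) _ 0).mpr
          ⟨p, rfl, by simpa using sdim_le_comp (ι ≫ q) (pullback.snd π ι) p⟩
      have h0 := hj 0
      rw [Nat.cast_zero, add_zero, add_natCast_le_iff] at h0
      refine (dim_eq_bot_iff.mp ?_).false (⟨_, by simpa using hmem⟩ : (ι ⁻¹' {x : X | (0 : WithBot ℕ∞) ≤ topologicalKrullDim (π.fiber x)} : Set W))
      exact h0.resolve_right fun h => hcn h.1

end Groth.Agent.CharDimH7
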