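import Groth.Agent.Lib.CharDimH7.Image
import Mathlib

/-!
Points of self fibre products off the diagonal.
-/

open CategoryTheory CategoryTheory.Limits AlgebraicGeometry Order Topology TopologicalSpace

universe u

namespace Groth.Agent.CharDimH7

open VarDim

variable {k : Type u} [Field k]

theorem sdim_le_dim_of_inter_closure_subset {X : Scheme.{u}} (q : X ⟶ Spec (CommRingCat.of k))
    [LocallyOfFiniteType q] {E : Set X} {y : X} {U : Set X} (hU : IsOpen U) (hy : y ∈ U)
    (hE : U ∩ closure {y} ⊆ E) : (sdim q y : WithBot ℕ∞) ≤ topologicalKrullDim E := by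
  let D : X.Opens := ⟨U, hU⟩
  let y' : D.toScheme := (⟨y, hy⟩ : D)
  have h := dim_closure_singleton (D.ι ≫ q) y'
  rw [sdim_comp_of_surjective q D.ι y'] at h
  refine le_trans (le_of_eq h.symm) ?_
  have hmem : ∀ x ∈ closure ({y'} : Set D.toScheme), D.ι x ∈ E := fun x hx => by
    refine hE ⟨(x : D).2, ?_⟩
    exact specializes_iff_mem_closure.mp ((specializes_iff_mem_closure.mpr hx).map D.ι.continuous)
  exact IsInducing.topologicalKrullDim_le
    (f := fun x : closure ({y'} : Set D.toScheme) => (⟨D.ι x.1, hmem x.1 x.2⟩ : E))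
    (IsInducing.of_comp (by have := D.ι.continuous; fun_prop) continuous_subtype_val
      (D.ι.isOpenEmbedding.isEmbedding.isInducing.comp IsInducing.subtypeVal))

theorem le_of_add_le {a b m d : WithBot ℕ∞} {n : ℕ} (ha : (n : WithBot ℕ∞) ≤ a) (h : a + d ≤ b + m)
    (hb : b = (n : WithBot ℕ∞)) : d ≤ m := by
  subst hb
  have h1 := (add_le_add ha le_rfl).trans h
  induction d with
  | bot => exact bot_le
  | coe d =>
    induction m with
    | bot => simp at h1
    | coe m =>
      rw [WithBot.coe_le_coe]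
      refine (ENat.add_le_add_iff_left (ENat.coe_ne_top n)).mp ?_
      exact_mod_cast h1

variable {X S : Scheme.{u}} (q : S ⟶ Spec (CommRingCat.of k)) (f : X ⟶ S)

/-- The pairs of `Y` and `Z` off the diagonal. -/
def offDiag (Y Z : Set X) : Set (pullback f f : Scheme.{u}) :=
  {p | pullback.fst f f p ∈ Y ∧ pullback.snd f f p ∈ Z ∧ p ∉ Set.range (pullback.diagonal f)}

theorem isClosed_range_diagonal [IsSeparated f] : IsClosed (Set.range (pullback.diagonal f)) :=
  (Scheme.Hom.isClosedEmbedding (pullback.diagonal f)).isClosed_range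

variable [LocallyOfFiniteType q] [LocallyOfFiniteType f] [IsSeparated f]

theorem sdim_le_dim_offDiag {Y Z : Set X} (hY : IsClosed Y) (hZ : IsClosed Z)
    {p : (pullback f f : Scheme.{u})} (hp : p ∈ offDiag f Y Z) :
    (sdim (f ≫ q) (pullback.fst f f p) : WithBot ℕ∞) ≤ topologicalKrullDim (offDiag f Y Z) := by
  refine le_trans ?_ (sdim_le_dim_of_inter_closure_subset (pullback.fst f f ≫ f ≫ q)
    (isClosed_range_diagonal f).isOpen_compl hp.2.2 ?_)
  · exact Nat.cast_le.mpr (sdim_le_comp (f ≫ q) (pullback.fst f f) p)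
  · rintro x ⟨hx1, hx2⟩
    have hsp : p ⤳ x := specializes_iff_mem_closure.mpr hx2
    exact ⟨(hsp.map (pullback.fst f f).continuous).mem_closed hY hp.1,
      (hsp.map (pullback.snd f f).continuous).mem_closed hZ hp.2.1, hx1⟩

omit [IsSeparated f] [LocallyOfFiniteType f] [LocallyOfFiniteType q] in
theorem exists_pair {y z : X} (h : f y = f z) (hne : y ≠ z) {Y Z : Set X} (hy : y ∈ Y) (hz : z ∈ Z) :
    ∃ p, p ∈ offDiag f Y Z ∧ pullback.fst f f p = y ∧ pullback.snd f f p = z := by
  obtain ⟨p, h1, h2⟩ := Scheme.Pullback.exists_preimage_pullback (f := f) (g := f) y z h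
  refine ⟨p, ⟨h1 ▸ hy, h2 ▸ hz, ?_⟩, h1, h2⟩
  rintro ⟨u, rfl⟩
  rw [← Scheme.Hom.comp_apply, pullback.diagonal_fst] at h1
  rw [← Scheme.Hom.comp_apply, pullback.diagonal_snd] at h2
  exact hne (h1.symm.trans h2)

omit [IsSeparated f] [LocallyOfFiniteType f] [LocallyOfFiniteType q] in
theorem isPurelyInseparable_of_no_pairs [IsSeparated f] (x : X)
    (h : ∀ p : (pullback f f : Scheme.{u}), pullback.fst f f p = x → pullback.snd f f p = x →
      p ∈ Set.range (pullback.diagonal f)) :
    (f.residueFieldMap x).hom.IsPurelyInseparable := by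
  algebraize [(f.residueFieldMap x).hom]
  rw [RingHom.IsPurelyInseparable, isPurelyInseparable_iff_subsingleton_emb, subsingleton_iff]
  intro σ₁ σ₂
  apply AlgHom.coe_ringHom_injective
  let L := AlgebraicClosure (X.residueField x)
  let g := fun σ : X.residueField x →ₐ[S.residueField (f x)] L =>
    Spec.map (CommRingCat.ofHom σ.toRingHom) ≫ X.fromSpecResidueField x
  have hg : g σ₁ ≫ f = g σ₂ ≫ f := by
    simp only [g, Category.assoc, ← f.SpecMap_residueFieldMap_fromSpecResidueField x, ← Spec.map_comp_assoc]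
    congr 2
    ext a
    exact (AlgHom.commutes σ₁ a).trans (AlgHom.commutes σ₂ a).symm
  let qq := pullback.lift (g σ₁) (g σ₂) hg
  let pt : Spec (CommRingCat.of L) := IsLocalRing.closedPoint L
  have hx : ∀ σ, g σ pt = x := fun σ => by
    simp only [g, Scheme.Hom.comp_apply]
    exact Scheme.fromSpecResidueField_apply x _
  obtain ⟨u, hu⟩ := h (qq pt) (by rw [← Scheme.Hom.comp_apply, pullback.lift_fst]; exact hx σ₁)
    (by rw [← Scheme.Hom.comp_apply, pullback.lift_snd]; exact hx σ₂)
  have hfac : qq ≫ pullback.fst f f = qq ≫ pullback.snd f f := by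
    obtain ⟨⟨p, ψ⟩, hq⟩ := ((pullback f f : Scheme.{u}).SpecToEquivOfField L).symm.surjective qq
    rw [Scheme.SpecToEquivOfField_symm_apply] at hq
    have hp : p = pullback.diagonal f u := by
      rw [hu, ← hq, Scheme.Hom.comp_apply]
      exact (Scheme.fromSpecResidueField_apply p _).symm
    subst hp
    haveI : IsIso ((pullback.diagonal f).residueFieldMap u) := by
      rw [ConcreteCategory.isIso_iff_bijective]
      refine ⟨RingHom.injective _, fun b => ?_⟩
      obtain ⟨b, rfl⟩ := Scheme.residue_surjective X u b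
      obtain ⟨a, rfl⟩ := (pullback.diagonal f).stalkMap_surjective u b
      exact ⟨Scheme.residue _ _ a, ConcreteCategory.congr_hom (Scheme.residue_residueFieldMap (pullback.diagonal f) u) a⟩
    have hd := (pullback.diagonal f).SpecMap_residueFieldMap_fromSpecResidueField u
    rw [← IsIso.eq_inv_comp] at hd
    rw [← hq, hd]
    simp [pullback.diagonal_fst, pullback.diagonal_snd]
  have heq : g σ₁ = g σ₂ := by
    rw [pullback.lift_fst, pullback.lift_snd] at hfac
    exact hfac
  have h' := congrArg (X.SpecToEquivOfField L)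
    (show (X.SpecToEquivOfField L).symm ⟨x, CommRingCat.ofHom σ₁.toRingHom⟩ =
      (X.SpecToEquivOfField L).symm ⟨x, CommRingCat.ofHom σ₂.toRingHom⟩ by
        rw [Scheme.SpecToEquivOfField_symm_apply, Scheme.SpecToEquivOfField_symm_apply]; exact heq)
  rw [Equiv.apply_symm_apply, Equiv.apply_symm_apply, Sigma.mk.injEq] at h'
  exact congrArg CommRingCat.Hom.hom (eq_of_heq h'.2)

end Groth.Agent.CharDimH7

namespace Groth.Agent.CharDimH7

open VarDim

variable {k : Type u} [Field k] {X S : Scheme.{u}} (q : S ⟶ Spec (CommRingCat.of k)) (f : X ⟶ S)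
  [LocallyOfFiniteType q] [LocallyOfFiniteType f] [CompactSpace X] [CompactSpace S]

omit [CompactSpace S] in
include q f in
theorem isConstructible_closed {Y : Set X} (hY : IsClosed Y) : IsConstructible Y := by
  haveI : IsLocallyNoetherian X := LocallyOfFiniteType.isLocallyNoetherian (f ≫ q)
  haveI : IsNoetherian X := {}
  have h : IsRetrocompact Yᶜ := fun U _ _ => NoetherianSpace.isCompact _
  simpa using (h.isConstructible hY.isOpen_compl).compl

include q in
theorem image_not_subset [IsSeparated f] {Y Z : Set X} (hYc : IsClosed Y) (hYi : IsIrreducible Y) (hZc : IsClosed Z)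
    (hWI : topologicalKrullDim (offDiag f Y Z) + topologicalKrullDim S ≤
      topologicalKrullDim Y + topologicalKrullDim Z)
    (hZS : topologicalKrullDim Z < topologicalKrullDim S) (hYZ : ¬ Y ⊆ Z) :
    ¬ (f '' Y ⊆ closure (f '' Y ∩ f '' Z)) := by
  intro hsub
  haveI : IsLocallyNoetherian S := LocallyOfFiniteType.isLocallyNoetherian q
  haveI : IsNoetherian S := {}
  haveI : QuasiCompact f := quasiCompact_of_compactSpace f
  haveI : LocallyOfFinitePresentation f := locallyOfFinitePresentation_of_locallyNoetherian f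
  have hg := hYi.isGenericPoint_genericPoint hYc
  set η := hYi.genericPoint
  have hηZ : η ∉ Z := fun h => hYZ (hg.def ▸ closure_minimal (Set.singleton_subset_iff.mpr h) hZc)
  have hE : IsConstructible (f '' Y ∩ f '' Z) :=
    (f.isConstructible_image (isConstructible_closed q f hYc)).inter
      (f.isConstructible_image (isConstructible_closed q f hZc))
  obtain ⟨W, hW, hηW, ⟨hmem, -⟩ | ⟨-, hWE⟩⟩ := exists_open_inter_closure_subset hE (f η)
  · obtain ⟨z, hz, he⟩ := hmem.2
    have hne : η ≠ z := fun e => hηZ (e ▸ hz)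
    obtain ⟨p, hp, hp1, -⟩ := exists_pair f he.symm hne hg.mem hz
    have h1 := sdim_le_dim_offDiag q f hYc hZc hp
    rw [hp1] at h1
    exact absurd (le_of_add_le h1 hWI (dim_irreducible_isClosed (f ≫ q) hYc hYi)) hZS.not_ge
  · obtain ⟨a, ha, haE⟩ := mem_closure_iff.mp (hsub ⟨η, hg.mem, rfl⟩) W hW hηW
    obtain ⟨y, hy, rfl⟩ := haE.1
    exact hWE ⟨ha, specializes_iff_mem_closure.mp ((hg.specializes hy).map f.continuous)⟩ haE

include q in
theorem generically_radicial [IsSeparated f] {Y : Set X} (hYc : IsClosed Y) (hYi : IsIrreducible Y)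
    (hWI : topologicalKrullDim (offDiag f Y Y) + topologicalKrullDim S ≤
      topologicalKrullDim Y + topologicalKrullDim Y)
    (hYS : topologicalKrullDim Y < topologicalKrullDim S) :
    ∃ V : Set X, IsOpen V ∧ (V ∩ Y).Nonempty ∧ Set.InjOn f.base (V ∩ Y) ∧
      ∀ x ∈ V ∩ Y, (f.residueFieldMap x).hom.IsPurelyInseparable := by
  haveI : IsLocallyNoetherian X := LocallyOfFiniteType.isLocallyNoetherian (f ≫ q)
  haveI : IsNoetherian X := {}
  haveI : IsLocallyNoetherian S := LocallyOfFiniteType.isLocallyNoetherian q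
  haveI : IsNoetherian S := {}
  haveI : QuasiCompact f := quasiCompact_of_compactSpace f
  let fst := pullback.fst f f
  haveI : QuasiCompact fst := inferInstance
  haveI : LocallyOfFinitePresentation fst := locallyOfFinitePresentation_of_locallyNoetherian fst
  haveI : CompactSpace (pullback f f : Scheme.{u}) := QuasiCompact.compactSpace_of_compactSpace fst
  have hg := hYi.isGenericPoint_genericPoint hYc
  set η := hYi.genericPoint
  let P := (pullback f f : Scheme.{u})
  haveI : IsLocallyNoetherian P := LocallyOfFiniteType.isLocallyNoetherian (fst ≫ f ≫ q)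
  have hD : IsConstructible (offDiag f Y Y) := by
    have h1 := isConstructible_closed q (fst ≫ f) (hYc.preimage fst.continuous)
    have h2 := isConstructible_closed q (fst ≫ f) (hYc.preimage (pullback.snd f f).continuous)
    have h3 := isConstructible_closed q (fst ≫ f) (isClosed_range_diagonal f)
    exact h1.inter (h2.inter h3.compl)
  have hη : η ∉ fst '' offDiag f Y Y := by
    rintro ⟨p, hp, hp1⟩
    have h1 := sdim_le_dim_offDiag q f hYc hYc hp
    rw [show pullback.fst f f p = η from hp1] at h1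
    exact absurd (le_of_add_le h1 hWI (dim_irreducible_isClosed (f ≫ q) hYc hYi)) hYS.not_ge
  obtain ⟨W, hW, hηW, ⟨hmem, -⟩ | ⟨-, hWE⟩⟩ :=
    exists_open_inter_closure_subset (fst.isConstructible_image hD) η
  · exact absurd hmem hη
  rw [hg.def] at hWE
  refine ⟨W, hW, ⟨η, hηW, hg.mem⟩, fun a ha b hb hab => ?_, fun x hx => ?_⟩
  · by_contra hne
    obtain ⟨p, hp, hp1, -⟩ := exists_pair f hab hne ha.2 hb.2
    exact hWE ha ⟨p, hp, hp1⟩
  · refine isPurelyInseparable_of_no_pairs f x fun p h1 h2 => ?_
    by_contra hne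
    exact hWE hx ⟨p, ⟨show pullback.fst f f p ∈ Y from h1.symm ▸ hx.2,
      show pullback.snd f f p ∈ Y from h2.symm ▸ hx.2, hne⟩, h1⟩

end Groth.Agent.CharDimH7
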